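import Mathlib

/-!
# Linear algebra lemmas for the basic element theorem (helper85)
-/

set_option autoImplicit false
universe u

namespace Groth.Agent.H85.Basic

open Module

variable {κ : Type u} [Field κ] {V : Type u} [AddCommGroup V] [Module κ V] [FiniteDimensional κ V]

/-- a subspace can be completed to the whole space by `codim` elements of a spanning set -/
theorem exists_fin_sup_eq_top (G : Set V) (hG : Submodule.span κ G = ⊤) :
    ∀ (c : ℕ) (S : Submodule κ V), finrank κ V = finrank κ S + c →
      ∃ g : Fin c → V, (∀ i, g i ∈ G) ∧ S ⊔ Submodule.span κ (Set.range g) = ⊤ := by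
  intro c
  induction c with
  | zero =>
    intro S hS
    refine ⟨Fin.elim0, fun i => i.elim0, ?_⟩
    have : S = ⊤ := Submodule.eq_top_of_finrank_eq (by omega)
    rw [this, top_sup_eq]
  | succ c ih =>
    intro S hS
    have hne : S ≠ ⊤ := by
      intro h
      rw [h, finrank_top] at hS
      omega
    obtain ⟨g₀, hg₀G, hg₀S⟩ : ∃ g₀ ∈ G, g₀ ∉ S := by
      by_contra hcon
      push Not at hcon
      apply hne
      rw [eq_top_iff, ← hG, Submodule.span_le]
      exact hcon
    have hfr : finrank κ ↥(S ⊔ Submodule.span κ {g₀}) = finrank κ S + 1 := by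
      have hdisj : Disjoint S (Submodule.span κ {g₀}) := by
        rw [Submodule.disjoint_def]
        intro x hxS hx
        rw [Submodule.mem_span_singleton] at hx
        obtain ⟨a, rfl⟩ := hx
        by_contra hne0
        have ha : a ≠ 0 := by
          intro h
          apply hne0
          rw [h, zero_smul]
        apply hg₀S
        have := S.smul_mem a⁻¹ hxS
        rwa [smul_smul, inv_mul_cancel₀ ha, one_smul] at this
      have h1 := Submodule.finrank_sup_add_finrank_inf_eq S (Submodule.span κ {g₀})
      rw [disjoint_iff.mp hdisj, finrank_bot, add_zero] at h1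
      rw [h1, finrank_span_singleton]
      intro h
      apply hg₀S
      rw [h]
      exact zero_mem _
    obtain ⟨g, hgG, hg⟩ := ih (S ⊔ Submodule.span κ {g₀}) (by omega)
    refine ⟨Fin.cons g₀ g, ?_, ?_⟩
    · intro i
      refine Fin.cases ?_ (fun j => ?_) i
      · simpa using hg₀G
      · simpa using hgG j
    · have hr : Set.range (Fin.cons g₀ g : Fin (c + 1) → V) = {g₀} ∪ Set.range g := by
        ext x
        constructor
        · rintro ⟨i, rfl⟩
          refine Fin.cases ?_ (fun j => ?_) i
          · left; simp
          · right; exact ⟨j, by simp⟩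
        · rintro (h | ⟨j, rfl⟩)
          · exact ⟨0, by simpa using h.symm⟩
          · exact ⟨j.succ, by simp⟩
      rw [hr, Submodule.span_union, ← sup_assoc]
      exact hg

variable {n : ℕ}

/-- the span drops by at most one when the last vector is folded into the others -/
theorem finrank_sup_le_add_one (x : Fin n → V) (y : V) (c : Fin n → κ) :
    finrank κ ↥(Submodule.span κ (Set.range x) ⊔ Submodule.span κ {y}) ≤
      finrank κ ↥(Submodule.span κ (Set.range fun i => x i + c i • y)) + 1 := by
  have hle : Submodule.span κ (Set.range x) ⊔ Submodule.span κ {y} ≤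
      Submodule.span κ (Set.range fun i => x i + c i • y) ⊔ Submodule.span κ {y} := by
    refine sup_le ?_ le_sup_right
    rw [Submodule.span_le]
    rintro _ ⟨i, rfl⟩
    have : x i = (x i + c i • y) - c i • y := by abel
    rw [SetLike.mem_coe, this]
    refine Submodule.sub_mem _ (Submodule.mem_sup_left (Submodule.subset_span ⟨i, rfl⟩)) ?_
    exact Submodule.mem_sup_right (Submodule.smul_mem _ _ (Submodule.mem_span_singleton_self y))
  calc finrank κ ↥(Submodule.span κ (Set.range x) ⊔ Submodule.span κ {y})
      ≤ finrank κ ↥(Submodule.span κ (Set.range fun i => x i + c i • y) ⊔ Submodule.span κ {y}) :=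
        Submodule.finrank_mono hle
    _ ≤ finrank κ ↥(Submodule.span κ (Set.range fun i => x i + c i • y)) +
          finrank κ ↥(Submodule.span κ {y}) := Submodule.finrank_add_le_finrank_add_finrank _ _
    _ ≤ _ := by
        have : finrank κ ↥(Submodule.span κ {y}) ≤ 1 := by
          have h := finrank_span_le_card (R := κ) ({y} : Set V)
          simpa using h
        omega

/-- the local modification: changing at most one coefficient by `ρ ≠ 0` keeps the rank
`≥ min (old rank) n` -/
theorem exists_modification (x : Fin n → V) (y : V) (ρ : κ) (hρ : ρ ≠ 0) :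
    ∃ b : Fin n → κ, (b = 0 ∨ ∃ i₀, b = Pi.single i₀ ρ) ∧
      min (finrank κ ↥(Submodule.span κ (Set.range x) ⊔ Submodule.span κ {y})) n ≤
        finrank κ ↥(Submodule.span κ (Set.range fun i => x i + b i • y)) := by
  classical
  by_cases hy : y ∈ Submodule.span κ (Set.range x)
  · refine ⟨0, Or.inl rfl, ?_⟩
    have h1 : Submodule.span κ (Set.range x) ⊔ Submodule.span κ {y} = Submodule.span κ (Set.range x) := by
      rw [sup_eq_left, Submodule.span_singleton_le_iff_mem]
      exact hy
    have h2 : (fun i => x i + (0 : Fin n → κ) i • y) = x := by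
      funext i
      simp
    rw [h1, h2]
    exact min_le_left _ _
  by_cases hli : LinearIndependent κ x
  · refine ⟨0, Or.inl rfl, ?_⟩
    have h2 : (fun i => x i + (0 : Fin n → κ) i • y) = x := by
      funext i
      simp
    rw [h2, finrank_span_eq_card hli, Fintype.card_fin]
    exact min_le_right _ _
  · rw [Fintype.not_linearIndependent_iff] at hli
    obtain ⟨c, hc, i₀, hi₀⟩ := hli
    refine ⟨Pi.single i₀ ρ, Or.inr ⟨i₀, rfl⟩, ?_⟩
    set x' : Fin n → V := fun i => x i + (Pi.single i₀ ρ : Fin n → κ) i • y with hx'
    have hsum : ∑ i, c i • x' i = (c i₀ * ρ) • y := by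
      simp only [hx', smul_add, Finset.sum_add_distrib, hc, zero_add]
      rw [Finset.sum_eq_single i₀]
      · rw [Pi.single_eq_same, smul_smul]
      · intro j _ hj
        rw [Pi.single_eq_of_ne hj, zero_smul, smul_zero]
      · intro h
        exact absurd (Finset.mem_univ _) h
    have hyx' : y ∈ Submodule.span κ (Set.range x') := by
      have hne : c i₀ * ρ ≠ 0 := mul_ne_zero hi₀ hρ
      have : y = (c i₀ * ρ)⁻¹ • ∑ i, c i • x' i := by
        rw [hsum, smul_smul, inv_mul_cancel₀ hne, one_smul]
      rw [this]
      refine Submodule.smul_mem _ _ (Submodule.sum_mem _ fun i _ => ?_)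
      exact Submodule.smul_mem _ _ (Submodule.subset_span ⟨i, rfl⟩)
    have hle : Submodule.span κ (Set.range x) ⊔ Submodule.span κ {y} ≤
        Submodule.span κ (Set.range x') := by
      refine sup_le ?_ ?_
      · rw [Submodule.span_le]
        rintro _ ⟨i, rfl⟩
        have : x i = x' i - (Pi.single i₀ ρ : Fin n → κ) i • y := by
          simp only [hx']
          abel
        rw [SetLike.mem_coe, this]
        exact Submodule.sub_mem _ (Submodule.subset_span ⟨i, rfl⟩) (Submodule.smul_mem _ _ hyx')
      · rw [Submodule.span_singleton_le_iff_mem]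
        exact hyx'
    exact (min_le_left _ _).trans (Submodule.finrank_mono hle)

end Groth.Agent.H85.Basic
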