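import Mathlib
import Groth.Agent.H85.Basic.LinAlg

/-!
# Local data at a prime for the basic element theorem (helper85)

`LocData p M r` packages what is needed about a module `M` which is free of rank `r` at the prime
`p`: the residue map `ι : M → κ(p)^r`, Nakayama's lemma, and torsion-freeness of basic elements.
-/

set_option autoImplicit false
universe u

namespace Groth.Agent.H85.Basic

open Module

/-- local data at a prime -/
structure LocData {A : Type u} [CommRing A] (p : Ideal A) (M : Type u) [AddCommGroup M]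
    [Module A M] (r : ℕ) where
  /-- the residue field -/
  κ : Type u
  [fld : Field κ]
  /-- the residue map -/
  φ : A →+* κ
  hφ : ∀ a, φ a = 0 ↔ a ∈ p
  /-- reduction of `M` -/
  ι : M →+ (Fin r → κ)
  ι_smul : ∀ (a : A) (m : M), ι (a • m) = φ a • ι m
  span_top : Submodule.span κ (Set.range ι) = ⊤
  nak : ∀ N : Submodule A M, Submodule.span κ (ι '' (N : Set M)) = ⊤ →
    ∀ m : M, ∃ t : A, t ∉ p ∧ t • m ∈ N
  tors : ∀ (x : M) (a : A), ι x ≠ 0 → a • x = 0 → ∃ t : A, t ∉ p ∧ t * a = 0

attribute [instance] LocData.fld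

namespace LocData

variable {A : Type u} [CommRing A] {p : Ideal A} {M : Type u} [AddCommGroup M] [Module A M]
  {r : ℕ} (L : LocData p M r)

/-- the rank of a tuple at the prime -/
noncomputable def rk {n : ℕ} (v : Fin n → M) : ℕ :=
  finrank L.κ (Submodule.span L.κ (Set.range fun i => L.ι (v i)))

theorem rk_le_r {n : ℕ} (v : Fin n → M) : L.rk v ≤ r := by
  unfold rk
  have := Submodule.finrank_le (Submodule.span L.κ (Set.range fun i => L.ι (v i)))
  rwa [Module.finrank_fin_fun] at this

theorem rk_le_card {n : ℕ} (v : Fin n → M) : L.rk v ≤ n := by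
  unfold rk
  have := finrank_range_le_card (R := L.κ) (fun i => L.ι (v i))
  rwa [Fintype.card_fin] at this

theorem span_image_span (S : Set M) :
    Submodule.span L.κ (L.ι '' (Submodule.span A S : Set M)) = Submodule.span L.κ (L.ι '' S) := by
  apply le_antisymm
  · rw [Submodule.span_le]
    rintro _ ⟨m, hm, rfl⟩
    rw [SetLike.mem_coe] at hm ⊢
    induction hm using Submodule.span_induction with
    | mem x hx => exact Submodule.subset_span ⟨x, hx, rfl⟩
    | zero => rw [map_zero]; exact zero_mem _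
    | add x y _ _ hx hy => rw [map_add]; exact add_mem hx hy
    | smul a x _ hx => rw [L.ι_smul]; exact Submodule.smul_mem _ _ hx
  · exact Submodule.span_mono (Set.image_mono Submodule.subset_span)

theorem span_top_of_gen (N : Submodule A M) (h : ∀ m : M, ∃ t : A, t ∉ p ∧ t • m ∈ N) :
    Submodule.span L.κ (L.ι '' (N : Set M)) = ⊤ := by
  rw [eq_top_iff, ← L.span_top, Submodule.span_le]
  rintro _ ⟨m, rfl⟩
  obtain ⟨t, ht, htm⟩ := h m
  have hne : L.φ t ≠ 0 := fun h0 => ht ((L.hφ t).mp h0)
  have h1 : L.ι (t • m) ∈ Submodule.span L.κ (L.ι '' (N : Set M)) :=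
    Submodule.subset_span ⟨_, htm, rfl⟩
  rw [L.ι_smul] at h1
  have h2 := Submodule.smul_mem _ (L.φ t)⁻¹ h1
  rwa [smul_smul, inv_mul_cancel₀ hne, one_smul] at h2

theorem image_range {n : ℕ} (v : Fin n → M) :
    L.ι '' Set.range v = Set.range fun i => L.ι (v i) := by
  ext x
  constructor
  · rintro ⟨_, ⟨i, rfl⟩, rfl⟩
    exact ⟨i, rfl⟩
  · rintro ⟨i, rfl⟩
    exact ⟨_, ⟨i, rfl⟩, rfl⟩

theorem span_image_union {n s : ℕ} (v : Fin n → M) (g : Fin s → M) :
    Submodule.span L.κ (L.ι '' (Submodule.span A (Set.range v ∪ Set.range g) : Set M)) =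
      Submodule.span L.κ (Set.range fun i => L.ι (v i)) ⊔
        Submodule.span L.κ (Set.range fun i => L.ι (g i)) := by
  rw [span_image_span, Set.image_union, Submodule.span_union, image_range, image_range]

/-- if the rank is at least `w + 1`, then `r - w - 1` further elements generate locally -/
theorem exists_gens {n : ℕ} (v : Fin n → M) (w : ℕ) (hw : w + 1 ≤ L.rk v) :
    ∃ (s : ℕ) (g : Fin s → M), s + w + 1 ≤ r ∧
      ∀ m : M, ∃ t : A, t ∉ p ∧ t • m ∈ Submodule.span A (Set.range v ∪ Set.range g) := by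
  have hr := L.rk_le_r v
  obtain ⟨g', hg', hsup⟩ := exists_fin_sup_eq_top (κ := L.κ) (V := Fin r → L.κ)
    (Set.range L.ι) L.span_top (r - L.rk v)
    (Submodule.span L.κ (Set.range fun i => L.ι (v i)))
    (by rw [Module.finrank_fin_fun]; unfold rk at hr ⊢; omega)
  choose g hg using hg'
  refine ⟨r - L.rk v, g, by omega, ?_⟩
  apply L.nak
  rw [span_image_union]
  have : (fun i => L.ι (g i)) = g' := funext hg
  rw [this]
  exact hsup

/-- local generation by `s` further elements bounds the rank below -/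
theorem le_rk_add {n s : ℕ} (v : Fin n → M) (g : Fin s → M)
    (h : ∀ m : M, ∃ t : A, t ∉ p ∧ t • m ∈ Submodule.span A (Set.range v ∪ Set.range g)) :
    r ≤ L.rk v + s := by
  have h1 := L.span_top_of_gen _ h
  rw [span_image_union] at h1
  have h2 := Submodule.finrank_add_le_finrank_add_finrank
    (Submodule.span L.κ (Set.range fun i => L.ι (v i)))
    (Submodule.span L.κ (Set.range fun i => L.ι (g i)))
  rw [h1, finrank_top, Module.finrank_fin_fun] at h2
  have h3 := finrank_range_le_card (R := L.κ) (fun i => L.ι (g i))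
  rw [Fintype.card_fin] at h3
  unfold rk
  exact h2.trans (Nat.add_le_add_left h3 _)

/-- folding the last vector into the others -/
def fold {n : ℕ} (v : Fin (n + 2) → M) (a : Fin (n + 1) → A) : Fin (n + 1) → M :=
  fun i => v i.castSucc + a i • v (Fin.last _)

theorem ι_fold {n : ℕ} (v : Fin (n + 2) → M) (a : Fin (n + 1) → A) (i : Fin (n + 1)) :
    L.ι (fold v a i) = L.ι (v i.castSucc) + L.φ (a i) • L.ι (v (Fin.last _)) := by
  unfold fold
  rw [map_add, L.ι_smul]

theorem span_le_sup {n : ℕ} (v : Fin (n + 2) → M) :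
    Submodule.span L.κ (Set.range fun i => L.ι (v i)) ≤
      Submodule.span L.κ (Set.range fun i : Fin (n + 1) => L.ι (v i.castSucc)) ⊔
        Submodule.span L.κ {L.ι (v (Fin.last _))} := by
  rw [Submodule.span_le]
  rintro _ ⟨i, rfl⟩
  refine Fin.lastCases ?_ (fun j => ?_) i
  · exact Submodule.mem_sup_right (Submodule.mem_span_singleton_self _)
  · exact Submodule.mem_sup_left (Submodule.subset_span ⟨j, rfl⟩)

theorem rk_le_rk_fold_add_one {n : ℕ} (v : Fin (n + 2) → M) (a : Fin (n + 1) → A) :
    L.rk v ≤ L.rk (fold v a) + 1 := by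
  have h1 := Submodule.finrank_mono (L.span_le_sup v)
  have h2 := finrank_sup_le_add_one (κ := L.κ) (fun i : Fin (n + 1) => L.ι (v i.castSucc))
    (L.ι (v (Fin.last _))) (fun i => L.φ (a i))
  have h3 : (fun i => L.ι (fold v a i)) =
      fun i : Fin (n + 1) => L.ι (v i.castSucc) + L.φ (a i) • L.ι (v (Fin.last _)) :=
    funext fun i => L.ι_fold v a i
  unfold rk
  rw [h3]
  exact h1.trans h2

theorem rk_fold_congr {n : ℕ} (v : Fin (n + 2) → M) (a a' : Fin (n + 1) → A)
    (h : ∀ i, a i - a' i ∈ p) : L.rk (fold v a) = L.rk (fold v a') := by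
  have : (fun i => L.ι (fold v a i)) = fun i => L.ι (fold v a' i) := by
    funext i
    rw [ι_fold, ι_fold]
    have : L.φ (a i) = L.φ (a' i) := by
      have h0 := (L.hφ _).mpr (h i)
      rwa [map_sub, sub_eq_zero] at h0
    rw [this]
  unfold rk
  rw [this]

/-- the local modification -/
theorem exists_fold_modification {n : ℕ} (v : Fin (n + 2) → M) (a : Fin (n + 1) → A) (ρ : A)
    (hρ : ρ ∉ p) :
    ∃ a' : Fin (n + 1) → A, (∀ i, ∃ c : A, a' i - a i = c * ρ) ∧
      min (L.rk v) (n + 1) ≤ L.rk (fold v a') := by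
  classical
  have hne : L.φ ρ ≠ 0 := fun h0 => hρ ((L.hφ ρ).mp h0)
  obtain ⟨b, hb, hrank⟩ := exists_modification (κ := L.κ)
    (fun i : Fin (n + 1) => L.ι (fold v a i)) (L.ι (v (Fin.last _))) (L.φ ρ) hne
  have hv : L.rk v ≤ finrank L.κ ↥(Submodule.span L.κ (Set.range fun i : Fin (n + 1) =>
      L.ι (fold v a i)) ⊔ Submodule.span L.κ {L.ι (v (Fin.last _))}) := by
    refine Submodule.finrank_mono ((L.span_le_sup v).trans (sup_le ?_ le_sup_right))
    rw [Submodule.span_le]
    rintro _ ⟨i, rfl⟩
    have : L.ι (v i.castSucc) = L.ι (fold v a i) - L.φ (a i) • L.ι (v (Fin.last _)) := by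
      rw [ι_fold]; abel
    change L.ι (v i.castSucc) ∈ _
    rw [this]
    exact Submodule.sub_mem _ (Submodule.mem_sup_left (Submodule.subset_span ⟨i, rfl⟩))
      (Submodule.mem_sup_right (Submodule.smul_mem _ _ (Submodule.mem_span_singleton_self _)))
  have hmin : min (L.rk v) (n + 1) ≤
      finrank L.κ ↥(Submodule.span L.κ (Set.range fun i : Fin (n + 1) =>
        L.ι (fold v a i) + b i • L.ι (v (Fin.last _)))) :=
    (min_le_min hv le_rfl).trans hrank
  rcases hb with rfl | ⟨i₀, rfl⟩
  · refine ⟨a, fun i => ⟨0, by simp⟩, ?_⟩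
    have : (fun i : Fin (n + 1) => L.ι (fold v a i) + (0 : Fin (n + 1) → L.κ) i •
        L.ι (v (Fin.last _))) = fun i => L.ι (fold v a i) := by
      funext i; simp
    rw [this] at hmin
    exact hmin
  · refine ⟨a + Pi.single i₀ ρ, fun i => ?_, ?_⟩
    · by_cases hi : i = i₀
      · subst hi
        exact ⟨1, by simp⟩
      · exact ⟨0, by simp [Pi.single_eq_of_ne hi]⟩
    · have : (fun i : Fin (n + 1) => L.ι (fold v a i) + (Pi.single i₀ (L.φ ρ) : Fin (n + 1) → L.κ) i •
          L.ι (v (Fin.last _))) = fun i => L.ι (fold v (a + Pi.single i₀ ρ) i) := by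
        funext i
        rw [ι_fold, ι_fold, Pi.add_apply, map_add, add_smul, add_assoc]
        congr 2
        by_cases hi : i = i₀
        · subst hi
          rw [Pi.single_eq_same, Pi.single_eq_same]
        · rw [Pi.single_eq_of_ne hi, Pi.single_eq_of_ne hi, map_zero]
      rw [this] at hmin
      exact hmin

end LocData

end Groth.Agent.H85.Basic
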