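import Mathlib
import Groth.Agent.H85.Basic.LocData

/-!
# Local data from a local trivialisation (helper85)
-/

set_option autoImplicit false
universe u

namespace Groth.Agent.H85.Basic

open Module

variable {A : Type u} [CommRing A] (p : Ideal A) [hp : p.IsPrime]
  {M : Type u} [AddCommGroup M] [Module A M] {r : ℕ}

local notation "Ap" => Localization.AtPrime p
local notation "κp" => IsLocalRing.ResidueField (Localization.AtPrime p)

/-- coordinatewise residue -/
noncomputable def resVec : (Fin r → Ap) →+ (Fin r → κp) where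
  toFun y := fun i => IsLocalRing.residue Ap (y i)
  map_zero' := by funext i; simp
  map_add' x y := by funext i; simp

theorem resVec_apply (y : Fin r → Ap) (i : Fin r) :
    resVec p y i = IsLocalRing.residue Ap (y i) := rfl

theorem resVec_smul (a : Ap) (y : Fin r → Ap) :
    resVec p (a • y) = IsLocalRing.residue Ap a • resVec p y := by
  funext i
  simp [resVec_apply]

theorem resVec_surjective : Function.Surjective (resVec p (r := r)) := by
  intro z
  choose y hy using fun i => IsLocalRing.residue_surjective (z i)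
  exact ⟨y, funext hy⟩

theorem mem_smul_top_of_resVec_eq_zero (y : Fin r → Ap) (h : resVec p y = 0) :
    y ∈ IsLocalRing.maximalIdeal Ap • (⊤ : Submodule Ap (Fin r → Ap)) := by
  classical
  have hy : ∀ i, y i ∈ IsLocalRing.maximalIdeal Ap := by
    intro i
    have := congrFun h i
    rwa [resVec_apply, Pi.zero_apply, IsLocalRing.residue_eq_zero_iff] at this
  have : y = ∑ i, y i • (Pi.single i 1 : Fin r → Ap) := by
    funext j
    simp [Finset.sum_apply, Pi.single_apply]
  rw [this]
  exact Submodule.sum_mem _ fun i _ => Submodule.smul_mem_smul (hy i) Submodule.mem_top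

variable (e : LocalizedModule p.primeCompl M ≃ₗ[Localization.AtPrime p]
  (Fin r → Localization.AtPrime p))

/-- the map `M → A_p^r` -/
noncomputable def psi : M →ₗ[A] (Fin r → Ap) :=
  (e.toLinearMap.restrictScalars A) ∘ₗ (LocalizedModule.mkLinearMap p.primeCompl M)

theorem psi_apply (m : M) : psi p e m = e (LocalizedModule.mk m 1) := rfl

/-- the residue map of the module -/
noncomputable def iotaHom : M →+ (Fin r → κp) :=
  (resVec p).comp (psi p e).toAddMonoidHom

theorem iotaHom_apply (m : M) : iotaHom p e m = resVec p (psi p e m) := rfl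

theorem iotaHom_smul (a : A) (m : M) :
    iotaHom p e (a • m) =
      ((IsLocalRing.residue Ap).comp (algebraMap A Ap)) a • iotaHom p e m := by
  rw [iotaHom_apply, map_smul, ← algebraMap_smul Ap a (psi p e m), resVec_smul]
  rfl

theorem mk_eq_smul (m : M) (s : p.primeCompl) :
    (LocalizedModule.mk m s : LocalizedModule p.primeCompl M) = (Localization.mk 1 s : Ap) • LocalizedModule.mk m 1 := by
  rw [LocalizedModule.mk_smul_mk, one_smul, mul_one]

theorem span_range_iotaHom :
    Submodule.span κp (Set.range (iotaHom p e)) = ⊤ := by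
  rw [eq_top_iff]
  intro z _
  obtain ⟨y, rfl⟩ := resVec_surjective p z
  obtain ⟨x, rfl⟩ := e.surjective y
  induction x using LocalizedModule.induction_on with
  | h m s =>
    rw [mk_eq_smul, map_smul, resVec_smul]
    exact Submodule.smul_mem _ _ (Submodule.subset_span ⟨m, rfl⟩)

/-- elements of the span of the image of a submodule -/
theorem exists_mk_of_mem_span (N : Submodule A M) (x : LocalizedModule p.primeCompl M)
    (hx : x ∈ Submodule.span Ap ((LocalizedModule.mkLinearMap p.primeCompl M) '' (N : Set M))) :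
    ∃ n ∈ N, ∃ s : p.primeCompl, x = LocalizedModule.mk n s := by
  induction hx using Submodule.span_induction with
  | mem x hx =>
    obtain ⟨n, hn, rfl⟩ := hx
    exact ⟨n, hn, 1, rfl⟩
  | zero => exact ⟨0, N.zero_mem, 1, (LocalizedModule.zero_mk 1).symm⟩
  | add x y _ _ hx hy =>
    obtain ⟨n, hn, s, rfl⟩ := hx
    obtain ⟨n', hn', s', rfl⟩ := hy
    refine ⟨s' • n + s • n', N.add_mem (N.smul_mem _ hn) (N.smul_mem _ hn'), s * s', ?_⟩
    rw [LocalizedModule.mk_add_mk]
  | smul a x _ hx =>
    obtain ⟨n, hn, s, rfl⟩ := hx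
    induction a using Localization.induction_on with
    | H as =>
      obtain ⟨a, t⟩ := as
      exact ⟨a • n, N.smul_mem _ hn, t * s, LocalizedModule.mk_smul_mk _ _ _ _⟩

theorem nak_aux (N : Submodule A M)
    (hN : Submodule.span κp ((iotaHom p e) '' (N : Set M)) = ⊤) (m : M) :
    ∃ t : A, t ∉ p ∧ t • m ∈ N := by
  -- the span of the image of `N` in `A_p^r`
  set N' : Submodule Ap (Fin r → Ap) := Submodule.span Ap ((psi p e) '' (N : Set M)) with hN'
  have hres : ∀ z ∈ Submodule.span κp ((iotaHom p e) '' (N : Set M)),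
      ∃ y ∈ N', resVec p y = z := by
    intro z hz
    induction hz using Submodule.span_induction with
    | mem z hz =>
      obtain ⟨n, hn, rfl⟩ := hz
      exact ⟨psi p e n, Submodule.subset_span ⟨n, hn, rfl⟩, rfl⟩
    | zero => exact ⟨0, zero_mem _, map_zero _⟩
    | add z w _ _ hz hw =>
      obtain ⟨y, hy, rfl⟩ := hz
      obtain ⟨y', hy', rfl⟩ := hw
      exact ⟨y + y', add_mem hy hy', map_add _ _ _⟩
    | smul c z _ hz =>
      obtain ⟨y, hy, rfl⟩ := hz
      obtain ⟨a, rfl⟩ := IsLocalRing.residue_surjective c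
      exact ⟨a • y, Submodule.smul_mem _ _ hy, resVec_smul p a y⟩
  have htop : N' = ⊤ := by
    rw [eq_top_iff]
    apply Submodule.le_of_le_smul_of_le_jacobson_bot (I := IsLocalRing.maximalIdeal Ap)
      Module.Finite.fg_top (IsLocalRing.maximalIdeal_le_jacobson ⊥)
    intro y _
    obtain ⟨y', hy', hyy'⟩ := hres (resVec p y) (by rw [hN]; trivial)
    have h0 : resVec p (y - y') = 0 := by rw [map_sub, hyy', sub_self]
    have := mem_smul_top_of_resVec_eq_zero p (y - y') h0
    have hy : y = y' + (y - y') := by abel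
    rw [hy]
    exact Submodule.add_mem_sup hy' this
  -- transport back to `M_p`
  have hmem : (LocalizedModule.mk m 1 : LocalizedModule p.primeCompl M) ∈
      Submodule.span Ap ((LocalizedModule.mkLinearMap p.primeCompl M) '' (N : Set M)) := by
    have h1 : psi p e m ∈ N' := by rw [htop]; trivial
    have h2 : Submodule.map e.symm.toLinearMap N' =
        Submodule.span Ap ((LocalizedModule.mkLinearMap p.primeCompl M) '' (N : Set M)) := by
      rw [hN', Submodule.map_span]
      congr 1
      ext x
      constructor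
      · rintro ⟨_, ⟨n, hn, rfl⟩, rfl⟩
        refine ⟨n, hn, ?_⟩
        rw [psi_apply]
        exact (e.symm_apply_apply _).symm
      · rintro ⟨n, hn, rfl⟩
        refine ⟨psi p e n, ⟨n, hn, rfl⟩, ?_⟩
        rw [psi_apply]
        exact e.symm_apply_apply _
    rw [← h2]
    refine ⟨psi p e m, h1, ?_⟩
    rw [psi_apply]
    exact e.symm_apply_apply _
  obtain ⟨n, hn, s, hs⟩ := exists_mk_of_mem_span p N _ hmem
  rw [LocalizedModule.mk_eq] at hs
  obtain ⟨u, hu⟩ := hs
  refine ⟨(u : A) * (s : A), (u * s).2, ?_⟩
  have : ((u : A) * (s : A)) • m = (u : A) • n := by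
    have h1 : u • s • m = u • (1 : p.primeCompl) • n := hu
    rw [one_smul] at h1
    rw [mul_smul]
    exact h1
  rw [this]
  exact N.smul_mem _ hn

theorem tors_aux (x : M) (a : A) (hx : iotaHom p e x ≠ 0) (hax : a • x = 0) :
    ∃ t : A, t ∉ p ∧ t * a = 0 := by
  have hne : ∃ j, IsUnit (psi p e x j) := by
    by_contra hcon
    push Not at hcon
    apply hx
    funext j
    rw [iotaHom_apply, resVec_apply, Pi.zero_apply, IsLocalRing.residue_eq_zero_iff,
      IsLocalRing.mem_maximalIdeal]
    exact hcon j
  obtain ⟨j, hj⟩ := hne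
  have h0 : psi p e (a • x) = 0 := by rw [hax, map_zero]
  rw [map_smul] at h0
  have h1 := congrFun h0 j
  rw [Pi.smul_apply, Pi.zero_apply, ← algebraMap_smul Ap a, smul_eq_mul] at h1
  have h2 : algebraMap A Ap a = 0 := by
    have := hj.mul_left_eq_zero.mp h1
    exact this
  rw [IsLocalization.map_eq_zero_iff p.primeCompl] at h2
  obtain ⟨t, ht⟩ := h2
  exact ⟨t, t.2, ht⟩

/-- the local data attached to a trivialisation of `M_p` -/
noncomputable def locDataOfEquiv : LocData p M r where
  κ := κp
  φ := (IsLocalRing.residue Ap).comp (algebraMap A Ap)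
  hφ a := by
    rw [RingHom.comp_apply, IsLocalRing.residue_eq_zero_iff,
      IsLocalization.AtPrime.to_map_mem_maximal_iff Ap p]
  ι := iotaHom p e
  ι_smul := iotaHom_smul p e
  span_top := span_range_iotaHom p e
  nak := nak_aux p e
  tors := tors_aux p e

end Groth.Agent.H85.Basic
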