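import Mathlib
import Groth.Agent.H85.Basic.LocData

/-!
# The basic element theorem of Eisenbud–Evans on a set of primes (helper85)
-/

set_option autoImplicit false
universe u

namespace Groth.Agent.H85.Basic

open Module LocData

variable {A : Type u} [CommRing A] {M : Type u} [AddCommGroup M] [Module A M] {r : ℕ}

theorem gen_iff_notMem_support (p : PrimeSpectrum A) (N : Submodule A M) :
    p ∉ Module.support A (M ⧸ N) ↔ ∀ m : M, ∃ t : A, t ∉ p.asIdeal ∧ t • m ∈ N := by
  rw [Module.notMem_support_iff']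
  constructor
  · intro h m
    obtain ⟨t, ht, h0⟩ := h (Submodule.Quotient.mk m)
    refine ⟨t, ht, ?_⟩
    rwa [← Submodule.Quotient.mk_smul, Submodule.Quotient.mk_eq_zero] at h0
  · intro h x
    obtain ⟨m, rfl⟩ := Submodule.Quotient.mk_surjective N x
    obtain ⟨t, ht, h0⟩ := h m
    refine ⟨t, ht, ?_⟩
    rwa [← Submodule.Quotient.mk_smul, Submodule.Quotient.mk_eq_zero]

variable (X : Set (PrimeSpectrum A)) (d : PrimeSpectrum A → ℕ)
  (L : ∀ p : PrimeSpectrum A, p ∈ X → LocData p.asIdeal M r)

/-- the `(min (n, d p + 1))`-fold basic condition on `X` -/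
def Good {n : ℕ} (v : Fin n → M) : Prop :=
  ∀ (p : PrimeSpectrum A) (hp : p ∈ X), min n (d p + 1) ≤ (L p hp).rk v

/-- the open set where the tuple is `(w+1)`-fold basic -/
def openSet {n : ℕ} (v : Fin n → M) (w : ℕ) : Set (PrimeSpectrum A) :=
  {p | ∃ (s : ℕ) (g : Fin s → M), s + w + 1 ≤ r ∧
    p ∉ Module.support A (M ⧸ Submodule.span A (Set.range v ∪ Set.range g))}

theorem isOpen_openSet [Module.Finite A M] {n : ℕ} (v : Fin n → M) (w : ℕ) :
    IsOpen (openSet (A := A) (r := r) v w) := by
  have : openSet (A := A) (r := r) v w = ⋃ (s : ℕ) (g : Fin s → M) (_ : s + w + 1 ≤ r),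
      (Module.support A (M ⧸ Submodule.span A (Set.range v ∪ Set.range g)))ᶜ := by
    ext p
    simp only [openSet, Set.mem_setOf_eq, Set.mem_iUnion, Set.mem_compl_iff, exists_prop]
  rw [this]
  refine isOpen_iUnion fun s => isOpen_iUnion fun g => isOpen_iUnion fun _ => ?_
  exact Module.isClosed_support.isOpen_compl

include L in
theorem mem_openSet_iff {n : ℕ} (v : Fin n → M) (w : ℕ) (p : PrimeSpectrum A) (hp : p ∈ X) :
    p ∈ openSet (A := A) (r := r) v w ↔ w + 1 ≤ (L p hp).rk v := by
  constructor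
  · rintro ⟨s, g, hs, hg⟩
    rw [gen_iff_notMem_support] at hg
    have := (L p hp).le_rk_add v g hg
    omega
  · intro h
    obtain ⟨s, g, hs, hg⟩ := (L p hp).exists_gens v w h
    exact ⟨s, g, hs, (gen_iff_notMem_support p _).mpr hg⟩

variable (hX : ∀ p ∈ X, ∀ q : PrimeSpectrum A, q ≤ p → q ∈ X)
  (hd : ∀ p ∈ X, ∀ q : PrimeSpectrum A, q < p → d p + 1 ≤ d q)

/-- the critical primes of a tuple -/
def crit {n : ℕ} (v : Fin (n + 2) → M) : Set (PrimeSpectrum A) :=
  {p | ∃ hp : p ∈ X, (L p hp).rk v = d p + 1 ∧ d p + 1 ≤ n + 1}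

include hX hd in
theorem finite_crit [IsNoetherianRing A] [Module.Finite A M] {n : ℕ} (v : Fin (n + 2) → M)
    (hv : Good X d L v) : (crit X d L v).Finite := by
  -- the closed complements
  have hcl : ∀ w : ℕ, ∃ I : Ideal A, (openSet (A := A) (r := r) v w)ᶜ = PrimeSpectrum.zeroLocus (I : Set A) := by
    intro w
    exact (PrimeSpectrum.isClosed_iff_zeroLocus_ideal _).mp (isOpen_openSet v w).isClosed_compl
  choose I hI using hcl
  have hfin : (⋃ w ∈ Finset.range (n + 2),
      {p : PrimeSpectrum A | p.asIdeal ∈ (I w).minimalPrimes}).Finite := by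
    refine Set.Finite.biUnion (Finset.finite_toSet _) fun w _ => ?_
    have := (I w).finite_minimalPrimes_of_isNoetherianRing A
    exact this.preimage (fun a _ b _ hab => PrimeSpectrum.ext hab)
  refine hfin.subset ?_
  rintro p ⟨hp, hrk, hle⟩
  simp only [Set.mem_iUnion, Finset.mem_range, Set.mem_setOf_eq, exists_prop]
  refine ⟨d p + 1, by omega, ?_⟩
  have hpY : p ∈ PrimeSpectrum.zeroLocus (I (d p + 1)) := by
    rw [← hI, Set.mem_compl_iff, mem_openSet_iff X L v _ p hp]
    omega
  refine ⟨⟨p.2, (PrimeSpectrum.mem_zeroLocus _ _).mp hpY⟩, ?_⟩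
  rintro q ⟨hqprime, hqI⟩ hqp
  by_contra hnle
  let q' : PrimeSpectrum A := ⟨q, hqprime⟩
  have hlt : q' < p := lt_of_le_of_ne hqp (fun h => hnle (by rw [← h]))
  have hq'X : q' ∈ X := hX p hp q' hqp
  have hdq := hd p hp q' hlt
  have hgood := hv q' hq'X
  have hq'Y : q' ∈ PrimeSpectrum.zeroLocus (I (d p + 1)) :=
    (PrimeSpectrum.mem_zeroLocus _ _).mpr hqI
  rw [← hI, Set.mem_compl_iff, mem_openSet_iff X L v _ q' hq'X] at hq'Y
  have : d p + 1 + 1 ≤ min (n + 2) (d q' + 1) := by
    rw [le_min_iff]
    constructor <;> omega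
  omega

/-- simultaneous local modification on a finite set of primes -/
theorem exists_fold_on_finset {n : ℕ} (v : Fin (n + 2) → M) :
    ∀ (k : ℕ) (E : Finset (PrimeSpectrum A)), E.card = k → (∀ p ∈ E, p ∈ X) →
      ∃ a : Fin (n + 1) → A, ∀ (p : PrimeSpectrum A) (_ : p ∈ E) (hp : p ∈ X),
        min ((L p hp).rk v) (n + 1) ≤ (L p hp).rk (fold v a) := by
  classical
  intro k
  induction k with
  | zero =>
    intro E hE _
    rw [Finset.card_eq_zero] at hE
    subst hE
    exact ⟨0, fun p hp => absurd hp (Finset.notMem_empty p)⟩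
  | succ k ih =>
    intro E hE hEX
    have hne : E.Nonempty := by
      rw [← Finset.card_pos]; omega
    obtain ⟨p, hpE, hpmin⟩ := E.exists_minimal hne
    obtain ⟨a, ha⟩ := ih (E.erase p) (by rw [Finset.card_erase_of_mem hpE, hE]; rfl)
      (fun q hq => hEX q (Finset.mem_of_mem_erase hq))
    -- an element of all the other primes, not in `p`
    have hnot : ¬ (E.erase p).inf (fun q => q.asIdeal) ≤ p.asIdeal := by
      rw [Ideal.IsPrime.inf_le' p.2]
      rintro ⟨q, hq, hqp⟩
      have hqE := Finset.mem_of_mem_erase hq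
      have hne' := Finset.ne_of_mem_erase hq
      have : q ≤ p := hqp
      exact hne' (le_antisymm this (hpmin hqE this))
    obtain ⟨ρ, hρ, hρp⟩ := SetLike.not_le_iff_exists.mp hnot
    have hpX := hEX p hpE
    obtain ⟨a', ha', hrk⟩ := (L p hpX).exists_fold_modification v a ρ hρp
    refine ⟨a', ?_⟩
    intro q hqE hqX
    by_cases hqp : q = p
    · subst hqp
      exact hrk
    · have hq' : q ∈ E.erase p := Finset.mem_erase.mpr ⟨hqp, hqE⟩
      have h1 := ha q hq' hqX
      have hρq : ρ ∈ q.asIdeal := by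
        have := (Finset.inf_le (f := fun q : PrimeSpectrum A => q.asIdeal) hq') hρ
        exact this
      have : (L q hqX).rk (fold v a') = (L q hqX).rk (fold v a) := by
        apply (L q hqX).rk_fold_congr
        intro i
        obtain ⟨c, hc⟩ := ha' i
        rw [hc]
        exact Ideal.mul_mem_left _ _ hρq
      rw [this]
      exact h1

include hX hd in
/-- the inductive step of Eisenbud–Evans -/
theorem step [IsNoetherianRing A] [Module.Finite A M] {n : ℕ} (v : Fin (n + 2) → M)
    (hv : Good X d L v) : ∃ a : Fin (n + 1) → A, Good X d L (fold v a) := by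
  classical
  have hfin := finite_crit X d L hX hd v hv
  obtain ⟨a, ha⟩ := exists_fold_on_finset X L v hfin.toFinset.card hfin.toFinset rfl
    (fun p hp => by
      rw [Set.Finite.mem_toFinset] at hp
      exact hp.1)
  refine ⟨a, ?_⟩
  intro p hp
  have hgood := hv p hp
  by_cases hc : p ∈ crit X d L v
  · have h1 := ha p (by rw [Set.Finite.mem_toFinset]; exact hc) hp
    have : min (n + 1) (d p + 1) ≤ min ((L p hp).rk v) (n + 1) := by
      rw [le_min_iff]
      constructor
      · exact le_trans (le_min (by omega) (min_le_right _ _)) hgood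
      · exact min_le_left _ _
    exact this.trans h1
  · have h1 := (L p hp).rk_le_rk_fold_add_one v a
    have hnc : ¬ ((L p hp).rk v = d p + 1 ∧ d p + 1 ≤ n + 1) := fun h => hc ⟨hp, h⟩
    by_cases hle : d p + 1 ≤ n + 1
    · have h2 : d p + 1 ≤ (L p hp).rk v := by
        have : min (n + 2) (d p + 1) = d p + 1 := min_eq_right (by omega)
        rwa [this] at hgood
      have h3 : (L p hp).rk v ≠ d p + 1 := fun h => hnc ⟨h, hle⟩
      have : min (n + 1) (d p + 1) = d p + 1 := min_eq_right hle
      rw [this]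
      omega
    · have h2 : n + 2 ≤ (L p hp).rk v := by
        have : min (n + 2) (d p + 1) = n + 2 := min_eq_left (by omega)
        rwa [this] at hgood
      have : min (n + 1) (d p + 1) = n + 1 := min_eq_left (by omega)
      rw [this]
      omega

include hX hd in
/-- **existence of a basic element** -/
theorem exists_basic [IsNoetherianRing A] [Module.Finite A M] :
    ∀ (n : ℕ) (v : Fin (n + 1) → M), Good X d L v →
      ∃ x : M, ∀ (p : PrimeSpectrum A) (hp : p ∈ X), (L p hp).ι x ≠ 0 := by
  intro n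
  induction n with
  | zero =>
    intro v hv
    refine ⟨v 0, fun p hp h0 => ?_⟩
    have h1 := hv p hp
    have h2 : (L p hp).rk v = 0 := by
      unfold LocData.rk
      have hle : Submodule.span (L p hp).κ (Set.range fun i => (L p hp).ι (v i)) ≤ ⊥ := by
        rw [Submodule.span_le]
        rintro _ ⟨i, rfl⟩
        have hi : i = 0 := Fin.ext (by omega)
        subst hi
        simp only [Submodule.bot_coe, Set.mem_singleton_iff]
        exact h0
      rw [le_bot_iff.mp hle, finrank_bot]
    have : min (0 + 1) (d p + 1) = 1 := by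
      rw [min_eq_left]; omega
    omega
  | succ n ih =>
    intro v hv
    obtain ⟨a, ha⟩ := step X d L hX hd v hv
    exact ih (fold v a) ha

end Groth.Agent.H85.Basic
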