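import Mathlib
import Groth.Agent.H85.Basic.Concrete

/-!
# Quotient by a basic element stays locally free (helper85)
-/

set_option autoImplicit false
universe u

namespace Groth.Agent.H85.Basic

open Module

section Equiv

variable {A : Type u} [CommRing A] (S : Submonoid A)
  {M₁ M₂ : Type u} [AddCommGroup M₁] [Module A M₁] [AddCommGroup M₂] [Module A M₂]

/-- localisation of a linear equivalence -/
noncomputable def locEquivOfEquiv (E : M₁ ≃ₗ[A] M₂) :
    LocalizedModule S M₁ ≃ₗ[Localization S] LocalizedModule S M₂ :=
  (IsLocalizedModule.linearEquiv S (LocalizedModule.mkLinearMap S M₁)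
    ((LocalizedModule.mkLinearMap S M₂) ∘ₗ E.toLinearMap)).extendScalarsOfIsLocalization S
      (Localization S)

end Equiv

section QuotSpan

variable {R : Type u} [CommRing R] {n : ℕ}

/-- the projection killing a vector with a unit coordinate -/
def killMap (y : Fin (n + 1) → R) (j : Fin (n + 1)) (u : Rˣ) :
    (Fin (n + 1) → R) →ₗ[R] (Fin n → R) where
  toFun z := fun i => z (j.succAbove i) - ((↑u⁻¹ : R) * z j) * y (j.succAbove i)
  map_add' z w := by
    funext i
    simp only [Pi.add_apply]
    ring
  map_smul' c z := by
    funext i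
    simp only [Pi.smul_apply, smul_eq_mul, RingHom.id_apply]
    ring

theorem killMap_apply (y : Fin (n + 1) → R) (j : Fin (n + 1)) (u : Rˣ) (z : Fin (n + 1) → R)
    (i : Fin n) :
    killMap y j u z i = z (j.succAbove i) - ((↑u⁻¹ : R) * z j) * y (j.succAbove i) := rfl

theorem killMap_surjective (y : Fin (n + 1) → R) (j : Fin (n + 1)) (u : Rˣ) :
    Function.Surjective (killMap y j u) := by
  intro w
  refine ⟨Fin.insertNth j (0 : R) w, ?_⟩
  funext i
  rw [killMap_apply, Fin.insertNth_apply_succAbove, Fin.insertNth_apply_same]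
  ring

theorem ker_killMap (y : Fin (n + 1) → R) (j : Fin (n + 1)) (u : Rˣ) (hu : y j = u) :
    LinearMap.ker (killMap y j u) = Submodule.span R {y} := by
  apply le_antisymm
  · intro z hz
    rw [LinearMap.mem_ker] at hz
    rw [Submodule.mem_span_singleton]
    refine ⟨(↑u⁻¹ : R) * z j, ?_⟩
    funext i
    refine Fin.succAboveCases j ?_ (fun i' => ?_) i
    · rw [Pi.smul_apply, smul_eq_mul, hu, mul_comm (↑u⁻¹ : R), mul_assoc, Units.inv_mul, mul_one]
    · have := congrFun hz i'
      rw [killMap_apply, Pi.zero_apply, sub_eq_zero] at this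
      rw [Pi.smul_apply, smul_eq_mul, this]
  · rw [Submodule.span_le, Set.singleton_subset_iff, SetLike.mem_coe, LinearMap.mem_ker]
    funext i
    rw [killMap_apply, hu, Units.inv_mul, one_mul, sub_self, Pi.zero_apply]

/-- the quotient of `R^(n+1)` by a vector with a unit coordinate is `R^n` -/
noncomputable def quotSpanEquiv (y : Fin (n + 1) → R) (j : Fin (n + 1)) (u : Rˣ) (hu : y j = u) :
    ((Fin (n + 1) → R) ⧸ Submodule.span R {y}) ≃ₗ[R] (Fin n → R) :=
  (Submodule.quotEquivOfEq _ _ (ker_killMap y j u hu).symm).trans
    ((killMap y j u).quotKerEquivOfSurjective (killMap_surjective y j u))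

end QuotSpan

section Quot

variable {A : Type u} [CommRing A] (p : Ideal A) [hp : p.IsPrime]
  {M : Type u} [AddCommGroup M] [Module A M] {n : ℕ}
  (e : LocalizedModule p.primeCompl M ≃ₗ[Localization.AtPrime p]
    (Fin (n + 1) → Localization.AtPrime p))

theorem exists_isUnit_coord (x : M) (hx : iotaHom p e x ≠ 0) : ∃ j, IsUnit (psi p e x j) := by
  by_contra hcon
  push Not at hcon
  apply hx
  funext j
  rw [iotaHom_apply, resVec_apply, Pi.zero_apply, IsLocalRing.residue_eq_zero_iff,
    IsLocalRing.mem_maximalIdeal]
  exact hcon j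

/-- the quotient by a basic element is locally free of rank one less -/
theorem nonempty_equiv_quot (x : M) (hx : iotaHom p e x ≠ 0) :
    Nonempty (LocalizedModule p.primeCompl (M ⧸ Submodule.span A {x}) ≃ₗ[Localization.AtPrime p]
      (Fin n → Localization.AtPrime p)) := by
  obtain ⟨j, hj⟩ := exists_isUnit_coord p e x hx
  obtain ⟨u, hu⟩ := hj
  have e1 := (localizedQuotientEquiv p.primeCompl (Submodule.span A {x})).symm
  have hloc : (Submodule.span A {x}).localized p.primeCompl =
      Submodule.span (Localization p.primeCompl)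
        {(LocalizedModule.mk x 1 : LocalizedModule p.primeCompl M)} := by
    rw [Submodule.localized, Submodule.localized'_span, Set.image_singleton]
    rfl
  have hmap : Submodule.map e.toLinearMap (Submodule.span (Localization p.primeCompl)
      {(LocalizedModule.mk x 1 : LocalizedModule p.primeCompl M)}) =
        Submodule.span (Localization.AtPrime p) {psi p e x} := by
    rw [Submodule.map_span, Set.image_singleton]
    rfl
  have e2 : (LocalizedModule p.primeCompl M ⧸ (Submodule.span A {x}).localized p.primeCompl)
      ≃ₗ[Localization.AtPrime p] ((Fin (n + 1) → Localization.AtPrime p) ⧸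
        Submodule.span (Localization.AtPrime p) {psi p e x}) :=
    Submodule.Quotient.equiv _ _ e (by rw [hloc]; exact hmap)
  have e3 := quotSpanEquiv (psi p e x) j u hu.symm
  exact ⟨(e1.trans e2).trans e3⟩

end Quot

end Groth.Agent.H85.Basic
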