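import Mathlib
import Groth.Agent.H85.Basic.Global
import Groth.Agent.H85.Basic.Quot

/-!
# Free submodules with locally free quotient in low codimension (helper85)
-/

set_option autoImplicit false
set_option linter.unusedSectionVars false
universe u

namespace Groth.Agent.H85.Basic

open Module

section Split

variable {A : Type u} [CommRing A] {M : Type u} [AddCommGroup M] [Module A M]

/-- if `x` has zero annihilator and `N'` is a free submodule of `M ⧸ Ax` of rank `j`, then its
preimage in `M` is free of rank `j + 1` -/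
theorem nonempty_equiv_comap (x : M) (hx : ∀ a : A, a • x = 0 → a = 0) (j : ℕ)
    (N' : Submodule A (M ⧸ Submodule.span A {x})) (E' : N' ≃ₗ[A] (Fin j → A)) :
    Nonempty (↥(Submodule.comap (Submodule.span A {x}).mkQ N') ≃ₗ[A] (Fin (j + 1) → A)) := by
  set π := (Submodule.span A {x}).mkQ with hπ
  set N := Submodule.comap π N' with hN
  -- the restriction of `π` to `N`
  let πN : N →ₗ[A] N' := π.restrict (fun n hn => hn)
  have hπN : Function.Surjective πN := by
    rintro ⟨n', hn'⟩
    obtain ⟨m, rfl⟩ := Submodule.mkQ_surjective _ n'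
    exact ⟨⟨m, hn'⟩, rfl⟩
  haveI : Module.Free A N' := Module.Free.of_equiv E'.symm
  obtain ⟨σ, hσ⟩ := Module.projective_lifting_property πN LinearMap.id hπN
  have hσ' : ∀ n' : N', πN (σ n') = n' := fun n' => by
    have := congrArg (fun f => f n') hσ
    exact this
  have hxN : x ∈ N := by
    change π x ∈ N'
    have : π x = 0 := (Submodule.Quotient.mk_eq_zero _).mpr (Submodule.mem_span_singleton_self x)
    rw [this]
    exact zero_mem _
  let Φ : (A × N') →ₗ[A] N :=
    (LinearMap.toSpanSingleton A N ⟨x, hxN⟩).coprod σ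
  have hΦ : ∀ c n', Φ (c, n') = c • (⟨x, hxN⟩ : N) + σ n' := by
    intro c n'
    simp [Φ, LinearMap.coprod_apply]
  have hπx : πN ⟨x, hxN⟩ = 0 := by
    apply Subtype.ext
    exact (Submodule.Quotient.mk_eq_zero _).mpr (Submodule.mem_span_singleton_self x)
  have hinj : Function.Injective Φ := by
    rw [← LinearMap.ker_eq_bot, LinearMap.ker_eq_bot']
    rintro ⟨c, n'⟩ h
    rw [hΦ] at h
    have h1 := congrArg πN h
    rw [map_add, map_smul, hπx, smul_zero, zero_add, hσ', map_zero] at h1
    subst h1
    rw [map_zero, add_zero] at h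
    have h2 := congrArg Subtype.val h
    have h3 : c • x = 0 := h2
    rw [hx c h3]
    rfl
  have hsurj : Function.Surjective Φ := by
    intro n
    have hk : (n - σ (πN n) : N).1 ∈ Submodule.span A {x} := by
      have h0 : πN (n - σ (πN n)) = 0 := by rw [map_sub, hσ', sub_self]
      have h1 := congrArg Subtype.val h0
      exact (Submodule.Quotient.mk_eq_zero _).mp h1
    rw [Submodule.mem_span_singleton] at hk
    obtain ⟨c, hc⟩ := hk
    refine ⟨(c, πN n), ?_⟩
    rw [hΦ]
    apply Subtype.ext
    have : (c • (⟨x, hxN⟩ : N) + σ (πN n) : N).1 = c • x + (σ (πN n)).1 := rfl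
    rw [this, hc]
    simp
  let e1 : (A × N') ≃ₗ[A] N := LinearEquiv.ofBijective Φ ⟨hinj, hsurj⟩
  let e2 : (A × N') ≃ₗ[A] (A × (Fin j → A)) := LinearEquiv.prodCongr (LinearEquiv.refl A A) E'
  exact ⟨(e1.symm.trans e2).trans (Fin.consLinearEquiv A (fun _ : Fin (j + 1) => A))⟩

end Split

section Main

variable (A : Type u) [CommRing A] [IsNoetherianRing A] (k : ℕ)

/-- the set of primes of height at most `k` -/
def lowSet : Set (PrimeSpectrum A) := {p | p.asIdeal.height ≤ k}

/-- the codimension function on `lowSet` -/
noncomputable def codim (p : PrimeSpectrum A) : ℕ := k - p.asIdeal.height.toNat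

variable {A k}

theorem lowSet_down (p : PrimeSpectrum A) (hp : p ∈ lowSet A k) (q : PrimeSpectrum A)
    (hq : q ≤ p) : q ∈ lowSet A k :=
  le_trans (Ideal.height_mono hq) hp

theorem codim_lt (p : PrimeSpectrum A) (hp : p ∈ lowSet A k) (q : PrimeSpectrum A)
    (hq : q < p) : codim A k p + 1 ≤ codim A k q := by
  have h1 : q.asIdeal.height + 1 ≤ p.asIdeal.height :=
    Ideal.height_add_one_le_of_lt_of_isPrime hq
  have hp' : p.asIdeal.height ≤ k := hp
  have hpfin : p.asIdeal.height ≠ ⊤ := ne_top_of_le_ne_top (ENat.natCast_ne_top k) hp'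
  have hqfin : q.asIdeal.height ≠ ⊤ := by
    intro h
    rw [h] at h1
    simp at h1
    exact hpfin h1
  lift p.asIdeal.height to ℕ using hpfin with a ha
  lift q.asIdeal.height to ℕ using hqfin with b hb
  unfold codim
  rw [← ha, ← hb, ENat.toNat_natCast, ENat.toNat_natCast]
  have h1' : b + 1 ≤ a := by exact_mod_cast h1
  have hp'' : a ≤ k := by exact_mod_cast hp'
  omega

theorem codim_le (p : PrimeSpectrum A) : codim A k p + 1 ≤ k + 1 := by
  unfold codim
  omega

/-- **the main theorem**: a free submodule of rank `j` whose quotient is free of rank `k` at the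
primes of height at most `k`. -/
theorem main (hAss : ∀ p ∈ associatedPrimes A A, p.height ≤ k) :
    ∀ (j : ℕ) (M : Type u) [AddCommGroup M] [Module A M] [Module.Finite A M],
      (∀ p : PrimeSpectrum A, p.asIdeal.height ≤ k →
        Nonempty (LocalizedModule p.asIdeal.primeCompl M ≃ₗ[Localization.AtPrime p.asIdeal]
          (Fin (k + j) → Localization.AtPrime p.asIdeal))) →
      ∃ N : Submodule A M, Nonempty (N ≃ₗ[A] (Fin j → A)) ∧
        ∀ p : PrimeSpectrum A, p.asIdeal.height ≤ k →
          Nonempty (LocalizedModule p.asIdeal.primeCompl (M ⧸ N) ≃ₗ[Localization.AtPrime p.asIdeal]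
            (Fin k → Localization.AtPrime p.asIdeal)) := by
  intro j
  induction j with
  | zero =>
    intro M _ _ _ hM
    refine ⟨⊥, ⟨LinearEquiv.ofSubsingleton _ _⟩, fun p hp => ?_⟩
    obtain ⟨e⟩ := hM p hp
    exact ⟨(locEquivOfEquiv p.asIdeal.primeCompl (Submodule.quotEquivOfEqBot ⊥ rfl)).trans e⟩
  | succ j ih =>
    intro M _ _ _ hM
    classical
    -- local data
    let L : ∀ p : PrimeSpectrum A, p ∈ lowSet A k → LocData p.asIdeal M (k + (j + 1)) :=
      fun p hp => locDataOfEquiv p.asIdeal (hM p hp).some
    -- a generating tuple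
    obtain ⟨n, s, hs⟩ := Module.Finite.exists_fin (R := A) (M := M)
    let v : Fin (n + 1) → M := Fin.cons 0 s
    have hgood : Good (lowSet A k) (codim A k) L v := by
      intro p hp
      have hrk : (L p hp).rk v = k + (j + 1) := by
        unfold LocData.rk
        have htop : Submodule.span (L p hp).κ (Set.range fun i => (L p hp).ι (v i)) = ⊤ := by
          rw [eq_top_iff, ← (L p hp).span_top]
          have h1 : Set.range (L p hp).ι = (L p hp).ι '' ((⊤ : Submodule A M) : Set M) := by
            rw [Submodule.top_coe, Set.image_univ]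
          rw [h1, ← hs, (L p hp).span_image_span, (L p hp).image_range]
          apply Submodule.span_mono
          rintro _ ⟨i, rfl⟩
          exact ⟨i.succ, by simp [v]⟩
        rw [htop, finrank_top, Module.finrank_fin_fun]
      rw [hrk]
      have := codim_le (A := A) (k := k) p
      exact (min_le_right _ _).trans (by omega)
    obtain ⟨x, hx⟩ := exists_basic (lowSet A k) (codim A k) L lowSet_down codim_lt n v hgood
    -- the annihilator of `x` vanishes
    have hann : ∀ a : A, a • x = 0 → a = 0 := by
      intro a hax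
      by_contra ha
      obtain ⟨P, hP, hle⟩ := exists_le_isAssociatedPrime_of_isNoetherianRing A a ha
      have hPprime : P.IsPrime := hP.isPrime
      let P' : PrimeSpectrum A := ⟨P, hPprime⟩
      have hP' : P' ∈ lowSet A k := hAss P hP
      obtain ⟨t, htP, hta⟩ := (L P' hP').tors x a (hx P' hP') hax
      apply htP
      apply hle
      rw [Submodule.mem_colon_singleton, Submodule.mem_bot]
      exact hta
    -- the quotient
    have hM' : ∀ p : PrimeSpectrum A, p.asIdeal.height ≤ k →
        Nonempty (LocalizedModule p.asIdeal.primeCompl (M ⧸ Submodule.span A {x}) ≃ₗ[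
          Localization.AtPrime p.asIdeal] (Fin (k + j) → Localization.AtPrime p.asIdeal)) := by
      intro p hp
      exact nonempty_equiv_quot p.asIdeal (hM p hp).some x (hx p hp)
    obtain ⟨N', ⟨E'⟩, hN'⟩ := ih (M ⧸ Submodule.span A {x}) hM'
    refine ⟨Submodule.comap (Submodule.span A {x}).mkQ N',
      nonempty_equiv_comap x hann j N' E', fun p hp => ?_⟩
    obtain ⟨e'⟩ := hN' p hp
    have hle : Submodule.span A {x} ≤ Submodule.comap (Submodule.span A {x}).mkQ N' := by
      rw [Submodule.span_le, Set.singleton_subset_iff]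
      change (Submodule.span A {x}).mkQ x ∈ N'
      have : (Submodule.span A {x}).mkQ x = 0 :=
        (Submodule.Quotient.mk_eq_zero _).mpr (Submodule.mem_span_singleton_self x)
      rw [this]
      exact zero_mem _
    have hmap : Submodule.map (Submodule.span A {x}).mkQ
        (Submodule.comap (Submodule.span A {x}).mkQ N') = N' :=
      Submodule.map_comap_eq_of_surjective (Submodule.mkQ_surjective _) N'
    have E1 := Submodule.quotientQuotientEquivQuotient (Submodule.span A {x})
      (Submodule.comap (Submodule.span A {x}).mkQ N') hle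
    rw [hmap] at E1
    exact ⟨(locEquivOfEquiv p.asIdeal.primeCompl E1.symm).trans e'⟩

end Main

end Groth.Agent.H85.Basic
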